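import Cfsg.Agent.H449.Om7.Four
import Cfsg.Agent.H856.Tz6

/-!
# S3691, `Ω_7(q)`, box `irr_four`, from the list of known simple groups (helper449)
-/

set_option autoImplicit false

namespace Cfsg.Agent.H449.Om7

open Cfsg Cfsg.Geo Cfsg.Agent.H884.El
open scoped MatrixGroups Matrix

theorem s5815_of_known (hk : H879.Nine.Known.{0}) : S5815Stmt := fun {_} _ _ hodd H hH hS =>
  H856.Tz.final hk hodd H hH hS

/-- box T1' : no irreducible proper subgroup of `Ω_7(q)` has a large primitive prime power of order 4 -/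
theorem irr_four (hk : H879.Nine.Known.{0}) {F : Type} [Field F] [Fintype F] {p f : ℕ} (hp : p.Prime) (hp2 : p ≠ 2) (hf : 1 ≤ f)
    (hF : Nat.card F = p ^ f) (h31 : 31 ≤ p ^ f) {H : Subgroup (GL (Unit ⊕ (Fin 3 ⊕ Fin 3)) F)}
    (hH : H ≤ omegaGL (quadFormOdd 3 F)) (hne : ¬ omegaGL (quadFormOdd 3 F) ≤ H) (hirr : ActsIrreducibly (matrixSet H))
    {r a : ℕ} (hr : PP p (f * 4) r) (hb : 9 < r ^ a) (hd : r ^ a ∣ Nat.card H) : False :=
  irr_four' (s5815_of_known hk) hp hp2 hf hF h31 hH hne hirr hr hb hd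

end Cfsg.Agent.H449.Om7
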