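import Cfsg.Agent.H449.Reg.Odd
import Cfsg.Agent.H951.Rl.BigN

/-!
# S3691, `Ω_7(q)`, box `lp` (helper449)
-/

set_option autoImplicit false
set_option linter.unusedTactic false
set_option linter.unreachableTactic false

namespace Cfsg.Agent.H449.Om7

open Cfsg.Agent.H884.El Cfsg.Agent.H951.Rl Cfsg.Agent.Lib.Zsigmondy Cfsg.Agent.H365.Zsig

/-- the general argument: `N ∣ c` if no primitive prime power is large -/
theorem key {p n b N c : ℕ} (hN : N ∣ p ^ n - 1)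
    (h1 : ∀ s, s.Prime → s ∣ N → orderOf (p : ZMod s) ≠ n → s ∣ c ∧ ¬ s ^ 2 ∣ N)
    (h2 : ∀ s, s.Prime → n ∣ s - 1 → s ≤ b → s ∣ c ∧ b < s ^ 2) (hn : 1 ≤ n)
    (hc0 : 0 < c) (hc : c < N) : ∃ r a, PP p n r ∧ b < r ^ a ∧ r ^ a ∣ p ^ n - 1 := by
  by_contra hno
  push Not at hno
  have h3 : N ∣ c := by
    rw [Nat.dvd_iff_prime_pow_dvd_dvd]
    intro s j hs hd
    rcases Nat.eq_zero_or_pos j with rfl | hj
    · exact one_dvd _
    have hsN : s ∣ N := (dvd_pow_self s hj.ne').trans hd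
    by_cases ho : orderOf (p : ZMod s) = n
    · have h4 : s ^ j ≤ b := by
        by_contra hlt
        exact hno s j ⟨hs, ho⟩ (by omega) (hd.trans hN)
      have h5 : s ≤ b := (Nat.le_self_pow hj.ne' s).trans h4
      obtain ⟨h6, h7⟩ := h2 s hs (succ_le_of_ord hs hn ho).1 h5
      have h8 : j = 1 := by
        by_contra hj1
        have h9 : s ^ 2 ≤ s ^ j := Nat.pow_le_pow_right hs.pos (by omega)
        omega
      rw [h8, pow_one]
      exact h6
    · obtain ⟨h4, h5⟩ := h1 s hs hsN ho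
      have h8 : j = 1 := by
        by_contra hj1
        exact h5 ((pow_dvd_pow s (by omega : 2 ≤ j)).trans hd)
      rw [h8, pow_one]
      exact h4
  exact absurd (Nat.le_of_dvd hc0 h3) (by omega)

theorem ord_dvd {p n s : ℕ} (hp : 1 ≤ p) (h : s ∣ p ^ n - 1) : orderOf (p : ZMod s) ∣ n := (dvd_pow_sub_one_iff hp n).1 h

/-- `f = 1`, `k = 3` -/
theorem lp13 {p : ℕ} (h31 : 5 ≤ p) : ∃ r a, PP p 3 r ∧ 7 < r ^ a ∧ r ^ a ∣ p ^ 3 - 1 := by
  have hN : (p ^ 2 + p + 1) * (p - 1) = p ^ 3 - 1 := by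
    obtain ⟨q, rfl⟩ : ∃ q, p = q + 1 := ⟨p - 1, by omega⟩
    simp only [Nat.add_sub_cancel]
    have : (q + 1) ^ 3 = ((q + 1) ^ 2 + (q + 1) + 1) * q + 1 := by ring
    omega
  refine key (N := p ^ 2 + p + 1) (c := 21) ⟨_, hN.symm⟩ ?_ ?_ (by norm_num) (by norm_num) (by nlinarith)
  · intro s hs hd ho
    have h1 : orderOf (p : ZMod s) = 1 := by
      rcases (Nat.dvd_prime Nat.prime_three).1 (ord_dvd (by omega) (hd.trans ⟨_, hN.symm⟩)) with h | h
      · exact h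
      · exact absurd h ho
    have h2 : s ∣ p - 1 := by
      have := (dvd_pow_sub_one_iff (show 1 ≤ p by omega) 1).2 (dvd_of_eq h1)
      rwa [pow_one] at this
    have h3 : s ∣ 3 := by
      have h4 : p ^ 2 + p + 1 = (p - 1) * (p + 2) + 3 := by
        obtain ⟨q, rfl⟩ : ∃ q, p = q + 1 := ⟨p - 1, by omega⟩
        simp only [Nat.add_sub_cancel]
        ring
      rw [h4] at hd
      exact (Nat.dvd_add_right (h2.mul_right _)).1 hd
    have h5 : s = 3 := (Nat.prime_dvd_prime_iff_eq hs Nat.prime_three).1 h3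
    subst h5
    refine ⟨by norm_num, ?_⟩
    intro h9
    obtain ⟨c, hc⟩ := h2
    obtain ⟨d, hd'⟩ := h9
    have h6 : p = 3 * c + 1 := by omega
    subst h6
    have : (3 * c + 1) ^ 2 + (3 * c + 1) + 1 = 9 * (c ^ 2 + c) + 3 := by ring
    omega
  · intro s hs hd hb
    have hs2 := hs.two_le
    interval_cases s <;> first | (norm_num; done) | omega | (exfalso; revert hs; norm_num; done)

/-- `f = 1`, `k = 4` -/
theorem lp14 {p : ℕ} (h31 : 5 ≤ p) : ∃ r a, PP p 4 r ∧ 9 < r ^ a ∧ r ^ a ∣ p ^ 4 - 1 := by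
  have hN : (p ^ 2 + 1) * (p ^ 2 - 1) = p ^ 4 - 1 := by
    obtain ⟨q, hq⟩ : ∃ q, p ^ 2 = q + 1 := ⟨p ^ 2 - 1, by nlinarith [Nat.sub_add_cancel (show 1 ≤ p ^ 2 by nlinarith)]⟩
    have h4 : p ^ 4 = (q + 1) ^ 2 := by rw [← hq]; ring
    rw [hq, h4]
    simp only [Nat.add_sub_cancel]
    have : (q + 1) ^ 2 = (q + 1 + 1) * q + 1 := by ring
    omega
  refine key (N := p ^ 2 + 1) (c := 10) ⟨_, hN.symm⟩ ?_ ?_ (by norm_num) (by norm_num) (by nlinarith)
  · intro s hs hd ho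
    have h1 : orderOf (p : ZMod s) ∣ 2 := by
      have h0 := ord_dvd (show 1 ≤ p by omega) (hd.trans ⟨_, hN.symm⟩)
      obtain ⟨i, hi, hi2⟩ := (Nat.dvd_prime_pow Nat.prime_two (m := 2)).1 (by simpa using h0)
      have hi3 : i ≠ 2 := by
        rintro rfl
        exact ho hi2
      rw [hi2]
      exact pow_dvd_pow 2 (show i ≤ 1 by omega)
    have h2 : s ∣ p ^ 2 - 1 := (dvd_pow_sub_one_iff (show 1 ≤ p by omega) 2).2 h1
    have hp2 : 1 ≤ p ^ 2 := Nat.one_le_pow _ _ (by omega)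
    have h3 : s ∣ 2 := by
      rw [show p ^ 2 + 1 = (p ^ 2 - 1) + 2 by omega] at hd
      exact (Nat.dvd_add_right h2).1 hd
    have h5 : s = 2 := (Nat.prime_dvd_prime_iff_eq hs Nat.prime_two).1 h3
    subst h5
    refine ⟨by norm_num, ?_⟩
    rintro ⟨d, hd'⟩
    rcases Nat.even_or_odd' p with ⟨c, rfl | rfl⟩
    · have : (2 * c) ^ 2 = 4 * c ^ 2 := by ring
      omega
    · have : (2 * c + 1) ^ 2 = 4 * (c ^ 2 + c) + 1 := by ring
      omega
  · intro s hs hd hb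
    have hs2 := hs.two_le
    interval_cases s <;> first | (norm_num; done) | omega | (exfalso; revert hs; norm_num; done)

/-- `f = 2`, `k = 3` -/
theorem lp23 {p : ℕ} (h31 : 6 ≤ p) : ∃ r a, PP p 6 r ∧ 7 < r ^ a ∧ r ^ a ∣ p ^ 6 - 1 := by
  obtain ⟨q, rfl⟩ : ∃ q, p = q + 1 := ⟨p - 1, by omega⟩
  have hNe : (q + 1) ^ 2 - (q + 1) + 1 = q ^ 2 + q + 1 := by
    have : (q + 1) ^ 2 = q ^ 2 + q + (q + 1) := by ring
    omega
  have h3 : (q ^ 2 + q + 1) * (q + 2) = (q + 1) ^ 3 + 1 := by ring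
  have h1 : 1 ≤ (q + 1) ^ 3 := Nat.one_le_pow _ _ (by omega)
  have h6 : ((q + 1) ^ 3 + 1) * ((q + 1) ^ 3 - 1) = (q + 1) ^ 6 - 1 := by
    obtain ⟨x, hx⟩ : ∃ x, (q + 1) ^ 3 = x + 1 := ⟨(q + 1) ^ 3 - 1, by omega⟩
    have h4 : (q + 1) ^ 6 = (x + 1) ^ 2 := by rw [← hx]; ring
    rw [hx, h4]
    simp only [Nat.add_sub_cancel]
    have : (x + 1) ^ 2 = (x + 1 + 1) * x + 1 := by ring
    omega
  have hN : q ^ 2 + q + 1 ∣ (q + 1) ^ 6 - 1 := (Dvd.intro _ h3).trans (Dvd.intro _ h6)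
  refine key (N := q ^ 2 + q + 1) (c := 21) hN ?_ ?_ (by norm_num) (by norm_num) (by nlinarith)
  · intro s hs hd ho
    have h0 := ord_dvd (show 1 ≤ q + 1 by omega) (hd.trans hN)
    have hle := Nat.le_of_dvd (by norm_num) h0
    have hodd : s ≠ 2 := by
      rintro rfl
      rcases Nat.even_or_odd' q with ⟨c, rfl | rfl⟩
      · obtain ⟨d, hd'⟩ := hd
        have : (2 * c) ^ 2 = 2 * (2 * c ^ 2) := by ring
        omega
      · obtain ⟨d, hd'⟩ := hd
        have : (2 * c + 1) ^ 2 = 2 * (2 * c ^ 2 + 2 * c) + 1 := by ring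
        omega
    have h3' : s ∣ (q + 1) ^ 3 + 1 := hd.trans (Dvd.intro _ h3)
    have h23 : orderOf (((q + 1 : ℕ)) : ZMod s) ∣ 2 := by
      have hn3 : ¬ orderOf (((q + 1 : ℕ)) : ZMod s) ∣ 3 := by
        intro h
        have h7 := (dvd_pow_sub_one_iff (show 1 ≤ q + 1 by omega) 3).2 h
        rw [show (q + 1) ^ 3 + 1 = ((q + 1) ^ 3 - 1) + 2 by omega] at h3'
        exact hodd ((Nat.prime_dvd_prime_iff_eq hs Nat.prime_two).1 ((Nat.dvd_add_right h7).1 h3'))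
      generalize orderOf (((q + 1 : ℕ)) : ZMod s) = o at *
      interval_cases o <;> first | omega | (norm_num; done) | (exfalso; revert hn3; norm_num; done) | (exfalso; revert h0; norm_num; done)
    have h2 : s ∣ (q + 1) ^ 2 - 1 := (dvd_pow_sub_one_iff (show 1 ≤ q + 1 by omega) 2).2 h23
    have h2' : s ∣ q ^ 2 + 2 * q := by
      have : (q + 1) ^ 2 - 1 = q ^ 2 + 2 * q := by
        have : (q + 1) ^ 2 = q ^ 2 + 2 * q + 1 := by ring
        omega
      rwa [this] at h2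
    have h4 : s ∣ q - 1 := by
      have h8 : q ^ 2 + 2 * q = (q ^ 2 + q + 1) + (q - 1) := by omega
      rw [h8] at h2'
      exact (Nat.dvd_add_right hd).1 h2'
    have h5 : s ∣ 3 := by
      have h9 : q ^ 2 + q + 1 = (q - 1) * (q + 2) + 3 := by
        obtain ⟨y, rfl⟩ : ∃ y, q = y + 1 := ⟨q - 1, by omega⟩
        simp only [Nat.add_sub_cancel]
        ring
      rw [h9] at hd
      exact (Nat.dvd_add_right (h4.mul_right _)).1 hd
    have h5' : s = 3 := (Nat.prime_dvd_prime_iff_eq hs Nat.prime_three).1 h5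
    subst h5'
    refine ⟨by norm_num, ?_⟩
    intro h9
    obtain ⟨c, hc⟩ := h4
    obtain ⟨d, hd'⟩ := h9
    have h6 : q = 3 * c + 1 := by omega
    subst h6
    have : (3 * c + 1) ^ 2 + (3 * c + 1) + 1 = 9 * (c ^ 2 + c) + 3 := by ring
    omega
  · intro s hs hd hb
    have hs2 := hs.two_le
    interval_cases s <;> first | (norm_num; done) | omega | (exfalso; revert hs; norm_num; done)

/-- a primitive prime of large exponent -/
theorem lp_zs {p f k : ℕ} (hp : p.Prime) (hp2 : p ≠ 2) (hk : 2 ≤ k) (h : 2 * k < f * k ∨ 2 * k + 1 < f * k + 1) :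
    ∃ r a, PP p (f * k) r ∧ 2 * k + 1 < r ^ a ∧ r ^ a ∣ (p ^ f) ^ k - 1 := by
  obtain ⟨r, hr, ho⟩ := exists_prime_orderOf hp.two_le (by omega : 2 ≤ f * k) (by omega) (by omega)
  obtain ⟨h1, h2⟩ := succ_le_of_ord hr (by omega) ho
  refine ⟨r, 1, ⟨hr, ho⟩, by rw [pow_one]; omega, ?_⟩
  rw [pow_one, ← pow_mul, dvd_pow_sub_one_iff hp.one_le, ho]

/-- box T0 : numbers -/
theorem lp {p f k : ℕ} (hp : p.Prime) (hp2 : p ≠ 2) (hf : 1 ≤ f) (h31 : 31 ≤ p ^ f) (hk : k = 3 ∨ k = 4 ∨ k = 6) :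
    ∃ r a, PP p (f * k) r ∧ 2 * k + 1 < r ^ a ∧ r ^ a ∣ (p ^ f) ^ k - 1 := by
  rcases hk with rfl | rfl | rfl
  · rcases (by omega : f = 1 ∨ f = 2 ∨ 3 ≤ f) with rfl | rfl | h3
    · rw [pow_one] at h31 ⊢
      exact lp13 (by omega)
    · have h6 : 6 ≤ p := by
        by_contra hlt
        have : p ^ 2 ≤ 5 ^ 2 := Nat.pow_le_pow_left (by omega) 2
        omega
      rw [← pow_mul]
      exact lp23 h6
    · exact lp_zs hp hp2 (by norm_num) (by omega)
  · rcases (by omega : f = 1 ∨ f = 2 ∨ 3 ≤ f) with rfl | rfl | h3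
    · rw [pow_one] at h31 ⊢
      exact lp14 (by omega)
    · obtain ⟨r, hr, ho⟩ := exists_prime_orderOf hp.two_le (by norm_num : 2 ≤ 2 * 4) (by norm_num) (by norm_num)
      obtain ⟨h1, h2⟩ := succ_le_of_ord hr (by norm_num) ho
      refine ⟨r, 1, ⟨hr, ho⟩, ?_, ?_⟩
      · rw [pow_one]
        by_contra hlt
        have h9 : r = 9 := by omega
        subst h9
        revert hr
        norm_num
      · rw [pow_one, ← pow_mul, dvd_pow_sub_one_iff hp.one_le, ho]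
    · exact lp_zs hp hp2 (by norm_num) (by omega)
  · obtain ⟨r, hr⟩ := H951.Rl.exists_big hp hf (k := 6) le_rfl (by
      simp only [List.mem_cons, Prod.mk.injEq, List.not_mem_nil, or_false]
      rintro (h | h | h | h | h | h | h | h | h | h | h | h) <;> obtain ⟨rfl, rfl, h⟩ := h <;> omega)
    exact ⟨r, _, ⟨hr.prime, hr.ord⟩, hr.big, hr.dvd⟩

end Cfsg.Agent.H449.Om7
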