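import Cfsg.Agent.H449.Reg.NineB
import Cfsg.Agent.H638.G2Iso
import Cfsg.Agent.S2121
import Cfsg.Agent.S0814
import Cfsg.Agent.S5814
import Cfsg.Agent.S0245
import Cfsg.Agent.S0246
import Cfsg.Agent.H124.LinCyc

/-!
# S3691, `Ω_7(q)`, box `irr_four` (helper449)
-/

set_option autoImplicit false
set_option linter.unusedSectionVars false

namespace Cfsg.Agent.H449.Om7

open Module QuadraticMap Cfsg Cfsg.Geo Cfsg.Agent.LieClassical.OrthCore
  Cfsg.Agent.H884.El Cfsg.Agent.H449.Reg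
open Cfsg.Agent.LieClassical.OrthForms (oddForm coe_oddForm)
open scoped MatrixGroups Matrix

/-- the text of `S5815` for fields in `Type` -/
def S5815Stmt : Prop := ∀ {F : Type} [Field F] [Fintype F] (_hodd : Odd (Fintype.card F))
    (H : Subgroup (Matrix.GeneralLinearGroup (Unit ⊕ (Fin 3 ⊕ Fin 3)) F))
    (_hH : Cfsg.Geo.IsMaximalIn (Cfsg.Geo.omegaGL (Cfsg.quadFormOdd 3 F)) H) (_hS : Cfsg.Geo.InOrthogonalResidualClass H),
    ∃ P : Subgroup (Matrix.GeneralLinearGroup (Unit ⊕ (Fin 3 ⊕ Fin 3)) F), Cfsg.Geo.IsResidualCore H P ∧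
    ((Nonempty ((P ⧸ (Cfsg.Geo.scalars (Unit ⊕ (Fin 3 ⊕ Fin 3)) F).subgroupOf P) ≃* alternatingGroup (Fin 9)) ∧ Fintype.card F = 3) ∨
     (Nonempty ((P ⧸ (Cfsg.Geo.scalars (Unit ⊕ (Fin 3 ⊕ Fin 3)) F).subgroupOf P) ≃* Cfsg.PSp 3 (ZMod 2)) ∧ (Fintype.card F).Prime) ∨
     Nonempty ((P ⧸ (Cfsg.Geo.scalars (Unit ⊕ (Fin 3 ⊕ Fin 3)) F).subgroupOf P) ≃* Cfsg.Lie.G2 F))

theorem card_psp62 : Nat.card (PSp 3 (ZMod 2)) = 1451520 := by
  have h1 := S0245.result (F := ZMod 2) (q := 2) (ZMod.card 2) 3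
  have h2 := S0246.result (F := ZMod 2) (q := 2) (ZMod.card 2) 3 (by norm_num)
  have h3 := Subgroup.card_eq_card_quotient_mul_card_subgroup
    (Subgroup.center (Matrix.symplecticGroup (Fin 3) (ZMod 2)))
  rw [h1, h2, Finset.prod_range_succ, Finset.prod_range_succ, Finset.prod_range_succ, Finset.prod_range_zero] at h3
  norm_num at h3
  exact h3.symm

theorem aut_psp62 : Nat.card (MulAut (PSp 3 (ZMod 2))) = 1451520 := by
  have := Fact.mk Nat.prime_two
  rw [S0814.result (F := ZMod 2) 2 1 le_rfl (by rw [ZMod.card]; norm_num) 3 (by norm_num) (by norm_num), card_psp62]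
  norm_num

/-- `|Aut G₂(q)|` -/
theorem aut_g2 {F : Type} [Field F] [Fintype F] {p f : ℕ} (hp : p.Prime) (hF : Fintype.card F = p ^ f) (h3 : 3 ≤ p ^ f) :
    Nat.card (MulAut (Lie.G2 F)) ∣ (p ^ f) ^ 6 * ((p ^ f) ^ 2 - 1) * ((p ^ f) ^ 6 - 1) * (2 * f) := by
  have := Fact.mk hp
  have hch : CharP F p := by
    obtain ⟨p', hp'⟩ := CharP.exists F
    have hpp := CharP.char_is_prime F p'
    obtain ⟨n, -, hn⟩ := FiniteField.card F p'
    have h1 : p' ∣ p ^ f := by rw [← hF, hn]; exact dvd_pow_self _ n.ne_zero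
    have h2 := (Nat.prime_dvd_prime_iff_eq hpp hp).1 (hpp.dvd_of_dvd_pow h1)
    rwa [h2] at hp'
  obtain ⟨e⟩ := H638.G2Iso.equiv (F := F)
  rw [Nat.card_congr (MulAut.congr e).toEquiv]
  have h1 : Nat.card (MulAut (Lie.chevG2.group F)) ∣ Nat.card (Lie.chevG2.group F) * Nat.card (Out (Lie.chevG2.group F)) := by
    rw [← Subgroup.card_mul_index (Inn (Lie.chevG2.group F))]
    exact Nat.mul_dvd_mul (Subgroup.card_range_dvd _) dvd_rfl
  have h2 := Cfsg.Agent.S2121.result (F := F) p f hF h3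
  have h4 : Nat.card F = p ^ f := by rw [Nat.card_eq_fintype_card, hF]
  rw [← Nat.card_congr e.toEquiv, H638.G2Iso.card_G2, h4] at h1
  refine h1.trans (Nat.mul_dvd_mul dvd_rfl ?_)
  rw [h2]
  split_ifs
  · exact dvd_rfl
  · exact Dvd.intro_left _ rfl

section

variable {F : Type} [Field F] [Fintype F] {M H : Subgroup (GL (Unit ⊕ (Fin 3 ⊕ Fin 3)) F)} {p f r a : ℕ}

theorem four_res (hR : S5815Stmt) (hodd : Odd (Fintype.card F)) (hp : p.Prime) (hf : 1 ≤ f) (hF : Fintype.card F = p ^ f)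
    (h31 : 31 ≤ p ^ f) (hM : IsMaximalIn (omegaGL (quadFormOdd 3 F)) M) (hS : InOrthogonalResidualClass M)
    (hr : PP p (f * 4) r) (hb : 9 < r ^ a) {g : GL (Unit ⊕ (Fin 3 ⊕ Fin 3)) F} (hg : g ∈ M) (ho : orderOf g = r ^ a) : False := by
  have h2 := H390.two_ne_zero_of_odd hodd
  have hMI : M ≤ Cfsg.isometryGroup F (⇑(oddForm 3 F)) := by rw [coe_oddForm]; exact hM.1.le.trans omega_le
  obtain ⟨P, hP, hcase⟩ := hR hodd M hM hS
  have hfk : 4 ≤ f * 4 := by omega
  have hlt := hr.lt (by omega)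
  have hrodd : Odd (orderOf g) := by rw [ho]; exact (hr.odd (by omega)).pow
  have ha : a ≠ 0 := by rintro rfl; simp at hb
  have hnd : Nondeg (oddForm 3 F) := LieClassical.OrthForms.nondeg_oddForm 3 F h2
  have key := H975.Cov.orderOf_dvd_core hnd hP hMI hg hrodd
  rw [ho] at key
  have hrp := hr.prime
  have hppq : PP (p ^ f) 4 r := hr.of_pow hf
  rcases hcase with ⟨-, h3⟩ | ⟨⟨e⟩, -⟩ | he
  · omega
  · rw [Nat.card_congr (MulAut.congr e).toEquiv, aut_psp62] at key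
    have h4 : 4 ∣ r - 1 := (Dvd.intro_left f rfl).trans (hr.dvd_sub_one (by omega))
    have hrd : r ∣ 2 ^ 9 * (3 ^ 4 * (5 * 7)) := (dvd_pow_self r ha).trans key
    rw [hrp.dvd_mul, hrp.dvd_mul, hrp.dvd_mul] at hrd
    have key2 : ∀ q : ℕ, q.Prime → r ∣ q → r = q := fun q hq h1 => (Nat.prime_dvd_prime_iff_eq hrp hq).1 h1
    rcases hrd with h1 | h1 | h1 | h1
    · have := key2 2 Nat.prime_two (hrp.dvd_of_dvd_pow h1); omega
    · have := key2 3 Nat.prime_three (hrp.dvd_of_dvd_pow h1); omega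
    · have h5 := key2 5 (by norm_num) h1
      subst h5
      have ha2 : 2 ≤ a := by
        by_contra hlt
        have : a = 1 := by omega
        subst this
        norm_num at hb
      have h6 := (pow_dvd_pow 5 ha2).trans key
      norm_num at h6
    · have h5 := key2 7 (by norm_num) h1
      omega
  · obtain ⟨e⟩ := he
    rw [Nat.card_congr (MulAut.congr e).toEquiv] at key
    have hrd := (dvd_pow_self r ha).trans (key.trans (aut_g2 hp hF (by omega)))
    have hq0 : 1 ≤ p ^ f := by omega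
    rw [hrp.dvd_mul, hrp.dvd_mul, hrp.dvd_mul, hrp.dvd_mul] at hrd
    rcases hrd with ((h1 | h1) | h1) | h1 | h1
    · exact hppq.not_dvd (by norm_num) (hrp.dvd_of_dvd_pow h1)
    · have := (hppq.dvd_iff hq0 2).1 h1
      norm_num at this
    · have := (hppq.dvd_iff hq0 6).1 h1
      norm_num at this
    · have := Nat.le_of_dvd (by norm_num) h1
      omega
    · have := Nat.le_of_dvd (by omega) h1
      omega

/-- reducible overgroups are impossible -/
theorem not_irr {W : Submodule F (Unit ⊕ (Fin 3 ⊕ Fin 3) → F)} (hirr : ActsIrreducibly (matrixSet H)) (hle : H ≤ subspaceStabilizer W)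
    (h0 : W ≠ ⊥) (h1 : W ≠ ⊤) : False := by
  rcases hirr W (by
    rintro _ ⟨g, hg, rfl⟩
    rintro _ ⟨w, hw, rfl⟩
    have h2 := (H884.OmegaGL.mem_subspaceStabilizer).1 (hle hg) w hw
    exact h2) with h | h
  · exact h0 h
  · exact h1 h

/-- box T1' (with `S5815` as a hypothesis) -/
theorem irr_four' (hR : S5815Stmt) (hp : p.Prime) (hp2 : p ≠ 2) (hf : 1 ≤ f)
    (hF : Nat.card F = p ^ f) (h31 : 31 ≤ p ^ f)
    (hH : H ≤ omegaGL (quadFormOdd 3 F)) (hne : ¬ omegaGL (quadFormOdd 3 F) ≤ H) (hirr : ActsIrreducibly (matrixSet H))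
    (hr : PP p (f * 4) r) (hb : 9 < r ^ a) (hd : r ^ a ∣ Nat.card H) : False := by
  classical
  have hFc : Fintype.card F = p ^ f := by rw [← Nat.card_eq_fintype_card]; exact hF
  have hodd : Odd (Fintype.card F) := by rw [hFc]; exact (hp.odd_of_ne_two hp2).pow
  have h2 := H390.two_ne_zero_of_odd hodd
  have ha : a ≠ 0 := by rintro rfl; simp at hb
  have hlt := hr.lt (by omega)
  have hppq : PP (Nat.card F) 4 r := by rw [hF]; exact hr.of_pow hf
  have hc7 : Fintype.card (Unit ⊕ (Fin 3 ⊕ Fin 3)) = 7 := card_odd 3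
  have hfin : Finite (GL (Unit ⊕ (Fin 3 ⊕ Fin 3)) F) := inferInstance
  -- an element of order `r ^ a`
  obtain ⟨g, hg, ho⟩ : ∃ g ∈ H, orderOf g = r ^ a := by
    have := Fact.mk hr.prime
    obtain ⟨S⟩ : Nonempty (Sylow r H) := inferInstance
    have hcyc : IsCyclic S := Cfsg.Agent.H124.LinCyc.isCyclic_of_gl (F := F) (ι := Unit ⊕ (Fin 3 ⊕ Fin 3)) (p := r) (e := 4)
      (by omega) (by norm_num) (fun j => by rw [← Nat.card_eq_fintype_card]; exact hppq.dvd_iff (by rw [hF]; omega) j)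
      (by rw [hc7]; norm_num) S.isPGroup' (H.subtype.comp (S : Subgroup H).subtype)
      (H.subtype_injective.comp (S : Subgroup H).subtype_injective)
    have hdvd : r ^ a ∣ Nat.card S := by
      rw [S.card_eq_multiplicity]
      exact pow_dvd_pow _ ((hr.prime.pow_dvd_iff_le_factorization Nat.card_pos.ne').1 hd)
    obtain ⟨g, hg⟩ := IsCyclic.exists_ofOrder_eq_natCard (α := S)
    obtain ⟨c, hc⟩ := hdvd
    have hc0 : c ≠ 0 := by
      rintro rfl
      have : 0 < Nat.card S := Nat.card_pos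
      omega
    refine ⟨((g ^ c : S) : H), ((g ^ c : S) : H).2, ?_⟩
    rw [Subgroup.orderOf_coe, Subgroup.orderOf_coe, orderOf_pow' _ hc0, hg, hc, Nat.gcd_eq_right (Dvd.intro_left _ rfl),
      Nat.mul_div_cancel _ (Nat.pos_of_ne_zero hc0)]
  -- a maximal overgroup
  have hlt' : H < omegaGL (quadFormOdd 3 F) := lt_of_le_of_ne hH fun h1 => hne h1.ge
  obtain ⟨M, hM, hle⟩ := exists_max hlt'
  have hMI : M ≤ Cfsg.isometryGroup F (⇑(oddForm 3 F)) := by rw [coe_oddForm]; exact hM.1.le.trans omega_le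
  have hdM : r ∣ Nat.card M := (dvd_pow_self r ha).trans (hd.trans (Subgroup.card_dvd_of_le hle))
  have hfin7 : Module.finrank F (Unit ⊕ (Fin 3 ⊕ Fin 3) → F) = 7 := by rw [Module.finrank_fintype_fun_eq_card, hc7]
  rcases S5814.result hodd M hM with ⟨W, hW0, hWs, hW⟩ | ⟨W, hW0, hWe, -, -, hW⟩ | ⟨-, D, hD, hW⟩ |
    ⟨F₀, s, P, hs, hcard, -, hW⟩ | hS
  · refine not_irr hirr (hle.trans (hW.le.trans inf_le_left)) hW0 ?_
    rintro rfl
    have hne : Nonempty (Unit ⊕ (Fin 3 ⊕ Fin 3)) := ⟨Sum.inl ()⟩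
    obtain ⟨v, hv⟩ := H975.Cov.exists_ne_zero (LieClassical.OrthForms.nondeg_oddForm 3 F h2)
    apply hv
    rw [show (oddForm 3 F) v = quadFormOdd 3 F v by rw [← coe_oddForm]]
    exact hWs v trivial
  · refine not_irr hirr (hle.trans (hW.le.trans inf_le_left)) hW0 ?_
    rintro rfl
    rw [finrank_top, hfin7] at hWe
    exact absurd hWe (by decide)
  · have := decomp_pow hD.decomp.decomp ((hW.le.trans inf_le_left) (hle hg)) (hMI (hle hg)) hppq (by norm_num) (by norm_num) ha ho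
    omega
  · exact kill_subfield (hW.le.trans inf_le_left) hs (by rw [Nat.card_eq_fintype_card]; exact hcard) hp hF hr
      (by rw [hc7]; norm_num) (by norm_num) hdM
  · exact four_res hR hodd hp hf hFc h31 hM hS hr hb (hle hg) ho

end

end Cfsg.Agent.H449.Om7
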